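import Mathlib
import Groth.Prelude.Def_PP16

set_option autoImplicit false

namespace Groth.Agent.H5.AFS

open TensorProduct

universe u

section der

variable {R S : Type u} [CommRing R] [CommRing S] [Algebra R S] (J : Ideal S)

/-- The projection `S/J² → S/J`. -/
noncomputable def piQ : S ⧸ J ^ 2 →ₐ[R] S ⧸ J :=
  Ideal.Quotient.factorₐ R (Ideal.pow_le_self (by norm_num))

lemma piQ_mk (x : S) : piQ (R := R) J (Ideal.Quotient.mk (J ^ 2) x) = Ideal.Quotient.mk J x := rfl

lemma piQ_surjective : Function.Surjective (piQ (R := R) J) := by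
  intro c
  obtain ⟨x, rfl⟩ := Ideal.Quotient.mk_surjective c
  exact ⟨Ideal.Quotient.mk _ x, rfl⟩

lemma ker_piQ : RingHom.ker (piQ (R := R) J : S ⧸ J ^ 2 →+* S ⧸ J) = J.cotangentIdeal := by
  ext y
  obtain ⟨x, rfl⟩ := Ideal.Quotient.mk_surjective y
  rw [RingHom.mem_ker, Ideal.mk_mem_cotangentIdeal]
  change Ideal.Quotient.mk J x = 0 ↔ _
  exact Ideal.Quotient.eq_zero_iff_mem

lemma isNilpotent_ker_piQ : IsNilpotent (RingHom.ker (piQ (R := R) J : S ⧸ J ^ 2 →+* S ⧸ J)) := by
  rw [ker_piQ]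
  exact ⟨2, J.cotangentIdeal_square⟩

variable [Algebra.FormallySmooth R (S ⧸ J)]

/-- An algebra section of `S/J² → S/J`. -/
noncomputable def sec : S ⧸ J →ₐ[R] S ⧸ J ^ 2 :=
  Algebra.FormallySmooth.liftOfSurjective (AlgHom.id R (S ⧸ J)) (piQ (R := R) J)
    (piQ_surjective J) (isNilpotent_ker_piQ J)

lemma piQ_sec (c : S ⧸ J) : piQ (R := R) J (sec (R := R) J c) = c :=
  Algebra.FormallySmooth.liftOfSurjective_apply _ _ _ _ c

/-- The other lift `S → S/J²`. -/
noncomputable def lift2 : S →ₐ[R] S ⧸ J ^ 2 := (sec (R := R) J).comp (Ideal.Quotient.mkₐ R J)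

lemma lift2_comp : (Ideal.Quotient.mkₐ R J.cotangentIdeal).comp (lift2 (R := R) J) =
    IsScalarTower.toAlgHom R S ((S ⧸ J ^ 2) ⧸ J.cotangentIdeal) := by
  ext x
  change Ideal.Quotient.mk J.cotangentIdeal (sec (R := R) J (Ideal.Quotient.mk J x)) =
    Ideal.Quotient.mk J.cotangentIdeal (Ideal.Quotient.mk (J ^ 2) x)
  rw [Ideal.Quotient.eq, ← ker_piQ (R := R) J, RingHom.mem_ker, map_sub]
  change piQ (R := R) J (sec (R := R) J (Ideal.Quotient.mk J x)) -
    piQ (R := R) J (Ideal.Quotient.mk (J ^ 2) x) = 0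
  rw [piQ_sec, piQ_mk, sub_self]

/-- The derivation `S → J/J²` restricting to the canonical map on `J`. -/
noncomputable def D0 : Derivation R S J.Cotangent :=
  (J.cotangentEquivIdeal.symm.toLinearMap).compDer
    (-(derivationToSquareZeroOfLift J.cotangentIdeal J.cotangentIdeal_square (lift2 (R := R) J)
      (lift2_comp J)))

lemma D0_mem (x : J) : D0 (R := R) J x = J.toCotangent x := by
  change J.cotangentEquivIdeal.symm (-(derivationToSquareZeroOfLift J.cotangentIdeal
    J.cotangentIdeal_square (lift2 (R := R) J) (lift2_comp J)) x) = _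
  rw [LinearEquiv.symm_apply_eq]
  apply Subtype.ext
  rw [Ideal.cotangentEquivIdeal_apply, Ideal.toCotangent_to_quotient_square]
  change -(lift2 (R := R) J x - algebraMap S (S ⧸ J ^ 2) x) = _
  have : lift2 (R := R) J x = 0 := by
    change sec (R := R) J (Ideal.Quotient.mk J x) = 0
    rw [Ideal.Quotient.eq_zero_iff_mem.mpr x.2, map_zero]
  rw [this, zero_sub, neg_neg]
  rfl

end der

end Groth.Agent.H5.AFS
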