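import Mathlib
import Groth.Prelude.Def_PP16
import Groth.Agent.Lib.Helper5.GrSym.L
import Groth.Agent.Lib.Helper5.AFS.A

set_option autoImplicit false

namespace Groth.Agent.H5.AFS

open MvPolynomial

universe u

section psi

variable {R S : Type u} [CommRing R] [CommRing S] [Algebra R S] (J : Ideal S)
  {κ : Type u} (D : Derivation R S J.Cotangent) (j : J.Cotangent →ₗ[S ⧸ J] (κ →₀ (S ⧸ J)))

lemma smul_cot (s : S) (m : J.Cotangent) : s • m = (Ideal.Quotient.mk J s) • m := by
  rw [← Ideal.Quotient.algebraMap_eq, algebraMap_smul]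

/-- The algebra map `S → C[X]/(X)²`, `s ↦ s̄ + ℓ(j(D s))`. -/
noncomputable def psiOfDer : S →ₐ[R] GrSym.T κ (S ⧸ J) 1 where
  toFun s := Ideal.Quotient.mk _ (C (Ideal.Quotient.mk J s) + GrSym.ell (j (D s)))
  map_one' := by
    rw [Derivation.map_one_eq_zero, map_zero, map_zero, add_zero, map_one, map_one, map_one]
  map_mul' s s' := by
    rw [← map_mul, Ideal.Quotient.eq, Derivation.leibniz, smul_cot, smul_cot, map_add, map_smul,
      map_smul, map_add, map_smul, map_smul, MvPolynomial.smul_eq_C_mul,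
      MvPolynomial.smul_eq_C_mul, map_mul, map_mul]
    have : C (Ideal.Quotient.mk J s) * C (Ideal.Quotient.mk J s') +
        (C (Ideal.Quotient.mk J s) * GrSym.ell (j (D s')) +
          C (Ideal.Quotient.mk J s') * GrSym.ell (j (D s))) -
        (C (Ideal.Quotient.mk J s) + GrSym.ell (j (D s))) *
          (C (Ideal.Quotient.mk J s') + GrSym.ell (j (D s'))) =
        - (GrSym.ell (j (D s)) * GrSym.ell (j (D s'))) := by ring
    rw [this, pow_succ, pow_one]
    exact Ideal.neg_mem_iff _ |>.mpr (Ideal.mul_mem_mul (GrSym.ell_mem _) (GrSym.ell_mem _))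
  map_zero' := by
    rw [map_zero, map_zero, map_zero, map_zero, map_zero, add_zero, map_zero]
  map_add' s s' := by
    simp only [map_add]
    ring
  commutes' a := by
    rw [Derivation.map_algebraMap, map_zero, map_zero, add_zero]
    rfl

lemma psiOfDer_apply (s : S) : psiOfDer J D j s =
    Ideal.Quotient.mk _ (C (Ideal.Quotient.mk J s) + GrSym.ell (j (D s))) := rfl

end psi

section forward

variable {R S : Type u} [CommRing R] [CommRing S] [Algebra R S] (J : Ideal S)
  [Algebra.FormallySmooth R (S ⧸ J)]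

theorem symGrBijective_of_adic (h : CAlgX.IsAdicFormallySmooth R S J)
    [Module.Projective (S ⧸ J) J.Cotangent] : PP16.SymGrBijective S J := by
  intro ι _ _
  obtain ⟨φ, hφ, hbij⟩ := GrSym.exists_bijective (R := R) (B₀ := S) J h
    (fun i => ⟨psiOfDer J (D0 (R := R) J) i,
      fun s => ⟨GrSym.ell (i (D0 (R := R) J s)), GrSym.ell_mem _, rfl⟩,
      fun x => by
        rw [psiOfDer_apply, D0_mem, Ideal.Quotient.eq_zero_iff_mem.mpr x.2, map_zero, zero_add]⟩)
    (fun s => ⟨s, by simp⟩) (ι := ι) (J ^ Fintype.card ι) (J ^ (Fintype.card ι + 1))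
    (fun _ => Iff.rfl) (fun _ => Iff.rfl)
  exact ⟨φ, hφ, hbij⟩

end forward

end Groth.Agent.H5.AFS
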