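import Mathlib
import Groth.Prelude.Def_PP16
import Groth.Agent.Lib.Helper5.AFS.B

set_option autoImplicit false

namespace Groth.Agent.H5.AFS

open MvPolynomial

universe u

section proj

variable {C : Type u} [CommRing C] {M : Type u} [AddCommGroup M] [Module C M]

/-- The linear retraction `C[X_M] → M`, `X_m ↦ m`. -/
noncomputable def retr : MvPolynomial M C →ₗ[C] M :=
  (MvPolynomial.basisMonomials M C).constr C (fun d => d.sum fun m k => k • m)

lemma retr_monomial (d : M →₀ ℕ) (c : C) :
    retr (C := C) (M := M) (monomial d c) = c • (d.sum fun m k => k • m) := by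
  have h : monomial d c = c • (MvPolynomial.basisMonomials M C) d := by
    rw [MvPolynomial.coe_basisMonomials, MvPolynomial.smul_monomial, smul_eq_mul, mul_one]
  rw [h, map_smul, retr, Module.Basis.constr_basis]

lemma retr_X (m : M) : retr (C := C) (M := M) (X m) = m := by
  rw [X, retr_monomial, one_smul, Finsupp.sum_single_index (by simp), one_smul]

lemma retr_ell (g : M →₀ C) :
    retr (C := C) (M := M) (GrSym.ell g) = Finsupp.linearCombination C (id : M → M) g := by
  induction g using Finsupp.induction_linear with
  | zero => simp
  | add f g hf hg => rw [map_add, map_add, map_add, hf, hg]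
  | single m c =>
    have h1 : (Finsupp.single m c : M →₀ C) = c • Finsupp.basisSingleOne (R := C) (ι := M) m := by
      rw [Finsupp.coe_basisSingleOne, Finsupp.smul_single, smul_eq_mul, mul_one]
    rw [Finsupp.linearCombination_single, h1, map_smul, GrSym.ell, SymPow.linForm_basis, map_smul,
      retr_X]
    rfl

end proj

end Groth.Agent.H5.AFS
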