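import Mathlib
import Groth.Prelude.Def_PP16
import Groth.Agent.Lib.Helper5.AFS.C

set_option autoImplicit false

namespace Groth.Agent.H5.AFS

open MvPolynomial

universe u

section main

variable {R S : Type u} [CommRing R] [CommRing S] [Algebra R S] (J : Ideal S)

/-- The canonical surjection from the free module on `J/J²`. -/
noncomputable abbrev pp : (J.Cotangent →₀ (S ⧸ J)) →ₗ[S ⧸ J] J.Cotangent :=
  Finsupp.linearCombination (S ⧸ J) (id : J.Cotangent → J.Cotangent)

/-- The square-zero ideal of `C[X]/(X)²` generated by the linear forms in the kernel of `pp`. -/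
noncomputable def NN : Ideal (GrSym.T J.Cotangent (S ⧸ J) 1) :=
  Ideal.span {y | ∃ f ∈ LinearMap.ker (pp J), y = Ideal.Quotient.mk _ (GrSym.ell f)}

lemma NN_sq : NN J ^ 2 = ⊥ := by
  rw [pow_two (NN J)]
  unfold NN
  rw [Ideal.span_mul_span', Ideal.span_eq_bot]
  rintro _ ⟨_, ⟨f, -, rfl⟩, _, ⟨g, -, rfl⟩, rfl⟩
  change Ideal.Quotient.mk _ (GrSym.ell f) * Ideal.Quotient.mk _ (GrSym.ell g) = 0
  rw [← map_mul, Ideal.Quotient.eq_zero_iff_mem, pow_succ, pow_one]
  exact Ideal.mul_mem_mul (GrSym.ell_mem f) (GrSym.ell_mem g)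

lemma sub_C_coeff_mem (q : MvPolynomial J.Cotangent (S ⧸ J)) :
    q - C (coeff 0 q) ∈ idealOfVars J.Cotangent (S ⧸ J) := by
  have h := GrSym.sub_hc_mem (n := 0) (p := q) (by rw [pow_zero, Ideal.one_eq_top]; trivial)
  rwa [homogeneousComponent_zero, zero_add, pow_one] at h

lemma mem_NN_iff (y : GrSym.T J.Cotangent (S ⧸ J) 1) :
    y ∈ NN J ↔ ∃ f ∈ LinearMap.ker (pp J), y = Ideal.Quotient.mk _ (GrSym.ell f) := by
  constructor
  · intro hy
    induction hy using Submodule.span_induction with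
    | mem y h => exact h
    | zero => exact ⟨0, zero_mem _, by rw [map_zero, map_zero]⟩
    | add y1 y2 _ _ h1 h2 =>
      obtain ⟨f1, hf1, rfl⟩ := h1
      obtain ⟨f2, hf2, rfl⟩ := h2
      exact ⟨f1 + f2, add_mem hf1 hf2, by rw [map_add, map_add]⟩
    | smul e y _ h =>
      obtain ⟨f, hf, rfl⟩ := h
      obtain ⟨q, rfl⟩ := Ideal.Quotient.mk_surjective e
      refine ⟨coeff 0 q • f, Submodule.smul_mem _ _ hf, ?_⟩
      rw [smul_eq_mul, ← map_mul, Ideal.Quotient.eq, map_smul, MvPolynomial.smul_eq_C_mul,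
        ← sub_mul, pow_succ, pow_one]
      exact Ideal.mul_mem_mul (sub_C_coeff_mem J q) (GrSym.ell_mem f)
  · rintro ⟨f, hf, rfl⟩
    exact Ideal.subset_span ⟨f, hf, rfl⟩

lemma mk_eq_mk_of (c : S ⧸ J) (g g' : J.Cotangent →₀ (S ⧸ J)) (h : pp J g = pp J g') :
    Ideal.Quotient.mk (NN J) (Ideal.Quotient.mk _ (C c + GrSym.ell g)) =
      Ideal.Quotient.mk (NN J) (Ideal.Quotient.mk _ (C c + GrSym.ell g')) := by
  rw [Ideal.Quotient.eq, mem_NN_iff]
  refine ⟨g - g', by rw [LinearMap.mem_ker, map_sub, h, sub_self], ?_⟩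
  have : GrSym.ell (g - g') = GrSym.ell g - GrSym.ell g' := map_sub _ _ _
  rw [this, ← map_sub]
  congr 1
  ring

lemma pp_single (m : J.Cotangent) (c : S ⧸ J) : pp J (Finsupp.single m c) = c • m := by
  rw [pp, Finsupp.linearCombination_single]
  rfl

variable [Algebra.FormallySmooth R (S ⧸ J)]

/-- The test map `S → (C[X]/(X)²)/N`. -/
noncomputable def psiP : S →ₐ[R] (GrSym.T J.Cotangent (S ⧸ J) 1) ⧸ NN J where
  toFun s := Ideal.Quotient.mk (NN J) (Ideal.Quotient.mk _
    (C (Ideal.Quotient.mk J s) + GrSym.ell (Finsupp.single (D0 (R := R) J s) 1)))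
  map_one' := by
    have hD : D0 (R := R) J 1 = 0 := Derivation.map_one_eq_zero _
    have h1 : Ideal.Quotient.mk J (1 : S) = 1 := map_one _
    have := mk_eq_mk_of J 1 (Finsupp.single 0 1) 0 (by rw [pp_single, smul_zero, map_zero])
    rw [hD, h1, this, map_zero GrSym.ell, add_zero, map_one C, map_one, map_one]
  map_mul' s s' := by
    rw [← map_mul, ← map_mul, Derivation.leibniz, smul_cot, smul_cot, map_mul]
    have h1 := mk_eq_mk_of J (Ideal.Quotient.mk J s * Ideal.Quotient.mk J s')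
      (Finsupp.single (Ideal.Quotient.mk J s • D0 (R := R) J s' +
        Ideal.Quotient.mk J s' • D0 (R := R) J s) 1)
      (Ideal.Quotient.mk J s • Finsupp.single (D0 (R := R) J s') 1 +
        Ideal.Quotient.mk J s' • Finsupp.single (D0 (R := R) J s) 1)
      (by rw [pp_single, one_smul, map_add, map_smul, map_smul, pp_single, pp_single, one_smul,
        one_smul])
    rw [h1]
    congr 1
    rw [Ideal.Quotient.eq, map_add, map_smul, map_smul, MvPolynomial.smul_eq_C_mul,
      MvPolynomial.smul_eq_C_mul, map_mul]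
    have : C (Ideal.Quotient.mk J s) * C (Ideal.Quotient.mk J s') +
        (C (Ideal.Quotient.mk J s) * GrSym.ell (Finsupp.single (D0 (R := R) J s') 1) +
          C (Ideal.Quotient.mk J s') * GrSym.ell (Finsupp.single (D0 (R := R) J s) 1)) -
        (C (Ideal.Quotient.mk J s) + GrSym.ell (Finsupp.single (D0 (R := R) J s) 1)) *
          (C (Ideal.Quotient.mk J s') + GrSym.ell (Finsupp.single (D0 (R := R) J s') 1)) =
        - (GrSym.ell (Finsupp.single (D0 (R := R) J s) 1) *
          GrSym.ell (Finsupp.single (D0 (R := R) J s') 1)) := by ring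
    rw [this, pow_succ, pow_one]
    exact Ideal.neg_mem_iff _ |>.mpr (Ideal.mul_mem_mul (GrSym.ell_mem _) (GrSym.ell_mem _))
  map_zero' := by
    have hD : D0 (R := R) J 0 = 0 := map_zero _
    have h1 : Ideal.Quotient.mk J (0 : S) = 0 := map_zero _
    have := mk_eq_mk_of J 0 (Finsupp.single 0 1) 0 (by rw [pp_single, smul_zero, map_zero])
    rw [hD, h1, this, map_zero GrSym.ell, add_zero, map_zero C, map_zero, map_zero]
  map_add' s s' := by
    have e1 : Ideal.Quotient.mk J (s + s') = Ideal.Quotient.mk J s + Ideal.Quotient.mk J s' :=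
      map_add _ _ _
    have e2 : D0 (R := R) J (s + s') = D0 (R := R) J s + D0 (R := R) J s' := map_add _ _ _
    have h1 := mk_eq_mk_of J (Ideal.Quotient.mk J s + Ideal.Quotient.mk J s')
      (Finsupp.single (D0 (R := R) J s + D0 (R := R) J s') 1)
      (Finsupp.single (D0 (R := R) J s) 1 + Finsupp.single (D0 (R := R) J s') 1)
      (by rw [pp_single, one_smul, map_add, pp_single, pp_single, one_smul, one_smul])
    rw [e1, e2, h1, ← map_add (Ideal.Quotient.mk (NN J)),
      ← map_add (Ideal.Quotient.mk (idealOfVars J.Cotangent (S ⧸ J) ^ (1 + 1)))]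
    congr 2
    rw [map_add C, map_add GrSym.ell]
    ring
  commutes' a := by
    rw [Derivation.map_algebraMap]
    have := mk_eq_mk_of J (Ideal.Quotient.mk J (algebraMap R S a)) (Finsupp.single 0 1) 0
      (by rw [pp_single, smul_zero, map_zero])
    rw [this, map_zero, add_zero]
    rfl

lemma psiP_apply (s : S) : psiP (R := R) J s = Ideal.Quotient.mk (NN J) (Ideal.Quotient.mk _
    (C (Ideal.Quotient.mk J s) + GrSym.ell (Finsupp.single (D0 (R := R) J s) 1))) := rfl

lemma psiP_kills (x : S) (hx : x ∈ J ^ 2) : psiP (R := R) J x = 0 := by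
  have hxJ : x ∈ J := Ideal.pow_le_self (by norm_num) hx
  have h0 : D0 (R := R) J x = 0 := by
    have := D0_mem (R := R) J ⟨x, hxJ⟩
    rw [this, Ideal.toCotangent_eq_zero]
    exact hx
  rw [psiP_apply, h0, Ideal.Quotient.eq_zero_iff_mem.mpr hxJ]
  have := mk_eq_mk_of J 0 (Finsupp.single 0 1) 0 (by rw [pp_single, smul_zero, map_zero])
  rw [this, map_zero GrSym.ell, add_zero, map_zero C, map_zero, map_zero]

end main

end Groth.Agent.H5.AFS
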