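import Mathlib
import Groth.Prelude.Def_PP16
import Groth.Agent.Lib.Helper5.AFS.D

set_option autoImplicit false

namespace Groth.Agent.H5.AFS

open MvPolynomial

universe u

section main

variable {R S : Type u} [CommRing R] [CommRing S] [Algebra R S] (J : Ideal S)
  [Algebra.FormallySmooth R (S ⧸ J)]

theorem projective_of_adic (h : CAlgX.IsAdicFormallySmooth R S J) :
    Module.Projective (S ⧸ J) J.Cotangent := by
  obtain ⟨χ, hχ⟩ := h (GrSym.T J.Cotangent (S ⧸ J) 1) (NN J) (NN_sq J) (psiP (R := R) J)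
    ⟨2, psiP_kills J⟩
  -- shape of `χ`
  have hshape : ∀ s : S, ∃ g : J.Cotangent →₀ (S ⧸ J), pp J g = D0 (R := R) J s ∧
      χ s = Ideal.Quotient.mk _ (C (Ideal.Quotient.mk J s) + GrSym.ell g) := by
    intro s
    have h1 : Ideal.Quotient.mk (NN J) (χ s) = psiP (R := R) J s := AlgHom.congr_fun hχ s
    rw [psiP_apply, Ideal.Quotient.eq, mem_NN_iff] at h1
    obtain ⟨f, hf, h2⟩ := h1
    refine ⟨Finsupp.single (D0 (R := R) J s) 1 + f, ?_, ?_⟩
    · rw [map_add, pp_single, one_smul, LinearMap.mem_ker.mp hf, add_zero]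
    · rw [sub_eq_iff_eq_add] at h2
      rw [h2, ← map_add, map_add GrSym.ell]
      congr 1
      ring
  have hshapeJ : ∀ x : J, ∃ g : J.Cotangent →₀ (S ⧸ J), pp J g = J.toCotangent x ∧
      χ x = Ideal.Quotient.mk _ (GrSym.ell g) := by
    intro x
    obtain ⟨g, hg1, hg2⟩ := hshape x
    refine ⟨g, by rw [hg1, D0_mem], ?_⟩
    rw [hg2, Ideal.Quotient.eq_zero_iff_mem.mpr x.2, map_zero, zero_add]
  let i₀ : J →ₗ[S] MvPolynomial J.Cotangent (S ⧸ J) :=
    { toFun := fun x => GrSym.Hq J.Cotangent (S ⧸ J) 1 1 le_rfl (χ x)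
      map_add' := fun x y => by
        change GrSym.Hq J.Cotangent (S ⧸ J) 1 1 le_rfl (χ ((x : S) + (y : S))) = _
        rw [map_add, map_add]
      map_smul' := fun s x => by
        change GrSym.Hq J.Cotangent (S ⧸ J) 1 1 le_rfl (χ (s * (x : S))) =
          s • GrSym.Hq J.Cotangent (S ⧸ J) 1 1 le_rfl (χ x)
        obtain ⟨gs, -, hgs⟩ := hshape s
        obtain ⟨gx, -, hgx⟩ := hshapeJ x
        rw [map_mul, hgs, hgx, ← map_mul, GrSym.Hq_mk, GrSym.Hq_mk,
          GrSym.hc_C_mul_add _ (GrSym.ell_mem gs) (by rw [pow_one]; exact GrSym.ell_mem gx),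
          ← MvPolynomial.smul_eq_C_mul, ← Ideal.Quotient.algebraMap_eq, algebraMap_smul] }
  have hi₀ : ∀ x y : J, i₀ (x * y) = 0 := by
    intro x y
    change GrSym.Hq J.Cotangent (S ⧸ J) 1 1 le_rfl (χ ((x : S) * (y : S))) = 0
    obtain ⟨gx, -, hgx⟩ := hshapeJ x
    obtain ⟨gy, -, hgy⟩ := hshapeJ y
    rw [map_mul, hgx, hgy, ← map_mul, GrSym.Hq_mk]
    apply GrSym.hc_eq_zero_of_mem (m := 2) (by norm_num)
    rw [pow_two]
    exact Ideal.mul_mem_mul (GrSym.ell_mem gx) (GrSym.ell_mem gy)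
  let i₁ : J.Cotangent →ₗ[S] MvPolynomial J.Cotangent (S ⧸ J) := Ideal.Cotangent.lift i₀ hi₀
  let i : J.Cotangent →ₗ[S ⧸ J] MvPolynomial J.Cotangent (S ⧸ J) :=
    LinearMap.extendScalarsOfSurjective Ideal.Quotient.mk_surjective i₁
  have hri : retr (C := S ⧸ J) (M := J.Cotangent) ∘ₗ i = LinearMap.id := by
    ext m
    obtain ⟨x, rfl⟩ := J.toCotangent_surjective m
    change retr (C := S ⧸ J) (M := J.Cotangent)
      (GrSym.Hq J.Cotangent (S ⧸ J) 1 1 le_rfl (χ x)) = J.toCotangent x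
    obtain ⟨gx, hgx1, hgx⟩ := hshapeJ x
    rw [hgx, GrSym.Hq_mk, homogeneousComponent_eq_self (GrSym.ell_isHomogeneous gx), retr_ell]
    exact hgx1
  exact Module.Projective.of_split i (retr (C := S ⧸ J) (M := J.Cotangent)) hri

end main

end Groth.Agent.H5.AFS
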