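import Mathlib
import Groth.Prelude.Def_PP16
import Groth.Agent.Lib.Helper5.GrSym.C

set_option autoImplicit false

namespace Groth.Agent.H5.AFS

open MvPolynomial

universe u

section generic

variable {A : Type*} [CommRing A] (𝔞 : Ideal A)

/-- Product estimate: replacing factors in `𝔞` by factors congruent modulo `𝔞²`. -/
lemma prod_sub_prod_mem {ι : Type*} (t : Finset ι) (u v : ι → A)
    (hv : ∀ i ∈ t, v i ∈ 𝔞) (huv : ∀ i ∈ t, u i - v i ∈ 𝔞 ^ 2) :
    ∏ i ∈ t, u i - ∏ i ∈ t, v i ∈ 𝔞 ^ (t.card + 1) ∧ ∏ i ∈ t, u i ∈ 𝔞 ^ t.card := by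
  classical
  induction t using Finset.induction_on with
  | empty => simp
  | insert a t ha ih =>
    have hu : ∀ i ∈ insert a t, u i ∈ 𝔞 := by
      intro i hi
      have h1 := huv i hi
      have h2 : u i = (u i - v i) + v i := by ring
      rw [h2]
      exact Ideal.add_mem _ (Ideal.pow_le_self (by norm_num) h1) (hv i hi)
    obtain ⟨ih1, ih2⟩ := ih (fun i hi => hv i (Finset.mem_insert_of_mem hi))
      (fun i hi => huv i (Finset.mem_insert_of_mem hi))
    rw [Finset.prod_insert ha, Finset.prod_insert ha, Finset.card_insert_of_notMem ha]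
    constructor
    · have e : u a * ∏ i ∈ t, u i - v a * ∏ i ∈ t, v i =
          (u a - v a) * ∏ i ∈ t, u i + v a * (∏ i ∈ t, u i - ∏ i ∈ t, v i) := by ring
      rw [e]
      refine Ideal.add_mem _ ?_ ?_
      · have : 𝔞 ^ (t.card + 1 + 1) = 𝔞 ^ 2 * 𝔞 ^ t.card := by
          rw [← pow_add]; congr 1; omega
        rw [this]
        exact Ideal.mul_mem_mul (huv a (Finset.mem_insert_self a t)) ih2
      · rw [pow_succ' 𝔞 (t.card + 1)]
        exact Ideal.mul_mem_mul (hv a (Finset.mem_insert_self a t)) ih1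
    · rw [pow_succ']
      exact Ideal.mul_mem_mul (hu a (Finset.mem_insert_self a t)) ih2

lemma mul_prod_sub_mul_prod_mem {ι : Type*} [Fintype ι] (u₀ v₀ : A) (u v : ι → A)
    (h₀ : u₀ - v₀ ∈ 𝔞) (hv : ∀ i, v i ∈ 𝔞) (huv : ∀ i, u i - v i ∈ 𝔞 ^ 2) :
    u₀ * ∏ i, u i - v₀ * ∏ i, v i ∈ 𝔞 ^ (Fintype.card ι + 1) := by
  obtain ⟨h1, h2⟩ := prod_sub_prod_mem 𝔞 Finset.univ u v (fun i _ => hv i) (fun i _ => huv i)
  rw [Finset.card_univ] at h1 h2
  have e : u₀ * ∏ i, u i - v₀ * ∏ i, v i =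
      (u₀ - v₀) * ∏ i, u i + v₀ * (∏ i, u i - ∏ i, v i) := by ring
  rw [e]
  refine Ideal.add_mem _ ?_ (Ideal.mul_mem_left _ _ h1)
  rw [pow_succ']
  exact Ideal.mul_mem_mul h₀ h2

end generic

section subst

variable {κ : Type*} {C : Type*} [CommRing C]

/-- Two algebra maps out of a polynomial ring differ by the ideal generated by the differences
on variables. -/
lemma aeval_sub_aeval_mem {A : Type*} [CommRing A] [Algebra C A] (f g : κ → A)
    (h : MvPolynomial κ C) :
    aeval f h - aeval g h ∈ Ideal.span (Set.range fun k => f k - g k) := by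
  induction h using MvPolynomial.induction_on with
  | C c => simp
  | add p q hp hq =>
    rw [map_add, map_add, add_sub_add_comm]
    exact Ideal.add_mem _ hp hq
  | mul_X p k hp =>
    rw [map_mul, map_mul, aeval_X, aeval_X]
    have e : aeval f p * f k - aeval g p * g k =
        (aeval f p - aeval g p) * f k + aeval g p * (f k - g k) := by ring
    rw [e]
    exact Ideal.add_mem _ (Ideal.mul_mem_right _ _ hp)
      (Ideal.mul_mem_left _ _ (Ideal.subset_span ⟨k, rfl⟩))

end subst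

section quot

variable {S : Type u} [CommRing S] (J : Ideal S) (n : ℕ)

/-- The image of `J` in `S/J^n`. -/
noncomputable abbrev Jn : Ideal (S ⧸ J ^ n) := J.map (Ideal.Quotient.mk (J ^ n))

lemma Jn_pow (j : ℕ) : Jn J n ^ j = (J ^ j).map (Ideal.Quotient.mk (J ^ n)) :=
  (Ideal.map_pow _ _ _).symm

lemma mk_mem_Jn_pow_iff {j : ℕ} (hj : j ≤ n) (y : S) :
    Ideal.Quotient.mk (J ^ n) y ∈ Jn J n ^ j ↔ y ∈ J ^ j := by
  rw [Jn_pow]
  constructor
  · intro h
    obtain ⟨y', hy', e⟩ := (Ideal.mem_map_iff_of_surjective _ Ideal.Quotient.mk_surjective).mp h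
    have h1 : y' - y ∈ J ^ n := Ideal.Quotient.eq.mp e
    have h2 : y = y' - (y' - y) := by ring
    rw [h2]
    exact Ideal.sub_mem _ hy' (Ideal.pow_le_pow_right hj h1)
  · exact Ideal.mem_map_of_mem _

lemma Jn_pow_self : Jn J n ^ n = ⊥ := by
  rw [Jn_pow, Ideal.map_quotient_self]

end quot

end Groth.Agent.H5.AFS
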