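import Mathlib
import Groth.Prelude.Def_PP16
import Groth.Agent.Lib.Helper5.AFS.F

set_option autoImplicit false

namespace Groth.Agent.H5.AFS

open MvPolynomial

universe u

section semilin

variable {K : Type*} [CommRing K] {M : Type*} {T : Type*} [CommRing T] (τ : K →+* T) (w : M → T)

/-- The `τ`-semilinear extension of `w` to the free module. -/
noncomputable def Lsum (g : M →₀ K) : T := g.sum fun m c => τ c * w m

lemma Lsum_zero : Lsum τ w 0 = 0 := Finsupp.sum_zero_index

lemma Lsum_add (g g' : M →₀ K) : Lsum τ w (g + g') = Lsum τ w g + Lsum τ w g' :=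
  Finsupp.sum_add_index' (fun m => by rw [map_zero, zero_mul])
    (fun m c c' => by rw [map_add, add_mul])

lemma Lsum_single (m : M) (c : K) : Lsum τ w (Finsupp.single m c) = τ c * w m :=
  Finsupp.sum_single_index (by rw [map_zero, zero_mul])

lemma Lsum_smul (c : K) (g : M →₀ K) : Lsum τ w (c • g) = τ c * Lsum τ w g := by
  induction g using Finsupp.induction_linear with
  | zero => rw [smul_zero, Lsum_zero, mul_zero]
  | add g g' h h' => rw [smul_add, Lsum_add, Lsum_add, h, h', mul_add]
  | single m c' =>
    rw [Finsupp.smul_single, Lsum_single, Lsum_single, smul_eq_mul, map_mul, mul_assoc]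

lemma map_Lsum {T' : Type*} [CommRing T'] (f : T →+* T') (g : M →₀ K) :
    f (Lsum τ w g) = Lsum (f.comp τ) (fun m => f (w m)) g := by
  induction g using Finsupp.induction_linear with
  | zero => rw [Lsum_zero, Lsum_zero, map_zero]
  | add g g' h h' => rw [Lsum_add, Lsum_add, map_add, h, h']
  | single m c => rw [Lsum_single, Lsum_single, map_mul]; rfl

variable [AddCommGroup M] [Module K M] (s : M →ₗ[K] (M →₀ K))

/-- The ring map `C[X_M] → T` attached to `τ`, `w` and `s`. -/
noncomputable def evalS : MvPolynomial M K →+* T :=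
  MvPolynomial.eval₂Hom τ (fun m => Lsum τ w (s m))

lemma evalS_C (c : K) : evalS τ w s (C c) = τ c := MvPolynomial.eval₂Hom_C _ _ c

lemma evalS_X (m : M) : evalS τ w s (X m) = Lsum τ w (s m) := MvPolynomial.eval₂Hom_X' _ _ m

lemma evalS_ell (g : M →₀ K) :
    evalS τ w s (GrSym.ell g) = Lsum τ w (s (Finsupp.linearCombination K (id : M → M) g)) := by
  induction g using Finsupp.induction_linear with
  | zero => rw [map_zero, map_zero, map_zero, map_zero, Lsum_zero]
  | add g g' h h' => rw [map_add, map_add, h, h', map_add, map_add, Lsum_add]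
  | single m c =>
    have h1 : (Finsupp.single m c : M →₀ K) = c • Finsupp.basisSingleOne (R := K) (ι := M) m := by
      rw [Finsupp.coe_basisSingleOne, Finsupp.smul_single, smul_eq_mul, mul_one]
    rw [Finsupp.linearCombination_single, id, map_smul, Lsum_smul, h1, map_smul, GrSym.ell,
      SymPow.linForm_basis, MvPolynomial.smul_eq_C_mul, map_mul, evalS_C, evalS_X]

lemma evalS_ell_of_mem_ker (g : M →₀ K)
    (hg : g ∈ LinearMap.ker (Finsupp.linearCombination K (id : M → M))) :
    evalS τ w s (GrSym.ell g) = 0 := by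
  rw [evalS_ell, LinearMap.mem_ker.mp hg, map_zero, Lsum_zero]

end semilin

end Groth.Agent.H5.AFS
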