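import Mathlib
import Groth.Prelude.Def_PP16
import Groth.Agent.Lib.Helper5.AFS.D
import Groth.Agent.Lib.Helper5.AFS.G

set_option autoImplicit false

namespace Groth.Agent.H5.AFS

open MvPolynomial

universe u

section theta

variable {R S : Type u} [CommRing R] [CommRing S] [Algebra R S] (J : Ideal S) (n : ℕ)
  (σ : S ⧸ J →ₐ[R] S ⧸ J ^ n)
  (hσ : ∀ b : S, σ (Ideal.Quotient.mk J b) - Ideal.Quotient.mk (J ^ n) b ∈ Jn J n)
  (s : J.Cotangent →ₗ[S ⧸ J] (J.Cotangent →₀ (S ⧸ J))) (hs : ∀ m, pp J (s m) = m)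
  (lam : J.Cotangent → J) (hlam : ∀ m, J.toCotangent (lam m) = m)

/-- The weights `mk (lam m)`. -/
noncomputable abbrev wn : J.Cotangent → S ⧸ J ^ n := fun m => Ideal.Quotient.mk (J ^ n) (lam m)

/-- The comparison map `C[X_M] → S/J^n`. -/
noncomputable abbrev Th : MvPolynomial J.Cotangent (S ⧸ J) →+* S ⧸ J ^ n :=
  evalS (σ : S ⧸ J →+* S ⧸ J ^ n) (wn J n lam) s

lemma mk_mem_Jn (x : J) : Ideal.Quotient.mk (J ^ n) (x : S) ∈ Jn J n :=
  Ideal.mem_map_of_mem _ x.2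

lemma mk_sub_mem_Jn_sq (x y : J) (h : J.toCotangent x = J.toCotangent y) :
    Ideal.Quotient.mk (J ^ n) (x : S) - Ideal.Quotient.mk (J ^ n) (y : S) ∈ Jn J n ^ 2 := by
  rw [Jn_pow, ← map_sub]
  exact Ideal.mem_map_of_mem _ ((Ideal.toCotangent_eq J).mp h)

include hσ hlam in
lemma Lsum_approx (g : J.Cotangent →₀ (S ⧸ J)) :
    ∃ y : J, J.toCotangent y = pp J g ∧
      Lsum (σ : S ⧸ J →+* S ⧸ J ^ n) (wn J n lam) g - Ideal.Quotient.mk (J ^ n) (y : S) ∈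
        Jn J n ^ 2 := by
  induction g using Finsupp.induction_linear with
  | zero => exact ⟨0, by rw [map_zero, map_zero], by simp [Lsum_zero]⟩
  | add g g' h h' =>
    obtain ⟨y, hy1, hy2⟩ := h
    obtain ⟨y', hy1', hy2'⟩ := h'
    refine ⟨y + y', by rw [map_add, map_add, hy1, hy1'], ?_⟩
    rw [Lsum_add, Submodule.coe_add, map_add, add_sub_add_comm]
    exact Ideal.add_mem _ hy2 hy2'
  | single m c =>
    obtain ⟨b, rfl⟩ := Ideal.Quotient.mk_surjective c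
    refine ⟨b • lam m, by rw [map_smul, hlam, pp_single, smul_cot], ?_⟩
    rw [Lsum_single]
    have e : (σ : S ⧸ J →+* S ⧸ J ^ n) (Ideal.Quotient.mk J b) * wn J n lam m -
        Ideal.Quotient.mk (J ^ n) ((b • lam m : J) : S) =
        (σ (Ideal.Quotient.mk J b) - Ideal.Quotient.mk (J ^ n) b) *
          Ideal.Quotient.mk (J ^ n) (lam m : S) := by
      rw [Submodule.coe_smul, smul_eq_mul, map_mul, sub_mul]
      rfl
    rw [e, pow_two]
    exact Ideal.mul_mem_mul (hσ b) (mk_mem_Jn J n (lam m))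

include hσ hs hlam in
lemma Lsum_s_sub_mem (m : J.Cotangent) :
    Lsum (σ : S ⧸ J →+* S ⧸ J ^ n) (wn J n lam) (s m) - Ideal.Quotient.mk (J ^ n) (lam m : S) ∈
      Jn J n ^ 2 := by
  obtain ⟨y, hy1, hy2⟩ := Lsum_approx J n σ hσ lam hlam (s m)
  rw [hs m] at hy1
  have h2 := mk_sub_mem_Jn_sq J n y (lam m) (by rw [hy1, hlam])
  have e : Lsum (σ : S ⧸ J →+* S ⧸ J ^ n) (wn J n lam) (s m) -
      Ideal.Quotient.mk (J ^ n) (lam m : S) =
      (Lsum (σ : S ⧸ J →+* S ⧸ J ^ n) (wn J n lam) (s m) - Ideal.Quotient.mk (J ^ n) (y : S)) +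
      (Ideal.Quotient.mk (J ^ n) (y : S) - Ideal.Quotient.mk (J ^ n) (lam m : S)) := by ring
  rw [e]
  exact Ideal.add_mem _ hy2 h2

include hσ hs hlam in
lemma Th_X_mem (m : J.Cotangent) : Th J n σ s lam (X m) ∈ Jn J n := by
  rw [evalS_X]
  have h := Lsum_s_sub_mem J n σ hσ s hs lam hlam m
  have e : Lsum (σ : S ⧸ J →+* S ⧸ J ^ n) (wn J n lam) (s m) =
      (Lsum (σ : S ⧸ J →+* S ⧸ J ^ n) (wn J n lam) (s m) -
        Ideal.Quotient.mk (J ^ n) (lam m : S)) + Ideal.Quotient.mk (J ^ n) (lam m : S) := by ring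
  rw [e]
  exact Ideal.add_mem _ (Ideal.pow_le_self (by norm_num) h) (mk_mem_Jn J n (lam m))

include hσ hs hlam in
lemma Th_mem_pow (j : ℕ) (q : MvPolynomial J.Cotangent (S ⧸ J))
    (hq : q ∈ idealOfVars J.Cotangent (S ⧸ J) ^ j) : Th J n σ s lam q ∈ Jn J n ^ j := by
  have h1 : (idealOfVars J.Cotangent (S ⧸ J)).map (Th J n σ s lam) ≤ Jn J n := by
    rw [idealOfVars, Ideal.map_span, Ideal.span_le]
    rintro _ ⟨_, ⟨m, rfl⟩, rfl⟩
    exact Th_X_mem J n σ hσ s hs lam hlam m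
  have h2 := Ideal.pow_right_mono h1 j
  rw [← Ideal.map_pow] at h2
  exact h2 (Ideal.mem_map_of_mem _ hq)

include hσ in
lemma exists_sub_mem_Jn (e : S ⧸ J ^ n) :
    ∃ q : MvPolynomial J.Cotangent (S ⧸ J), e - Th J n σ s lam q ∈ Jn J n := by
  obtain ⟨b, rfl⟩ := Ideal.Quotient.mk_surjective e
  refine ⟨C (Ideal.Quotient.mk J b), ?_⟩
  rw [evalS_C]
  have := hσ b
  rw [← Ideal.neg_mem_iff] at this
  convert this using 1
  simp

include hσ hs hlam in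
lemma exists_sub_mem_Jn_sq (y : S ⧸ J ^ n) (hy : y ∈ Jn J n) :
    ∃ q ∈ idealOfVars J.Cotangent (S ⧸ J), y - Th J n σ s lam q ∈ Jn J n ^ 2 := by
  obtain ⟨x, hx, rfl⟩ := (Ideal.mem_map_iff_of_surjective _ Ideal.Quotient.mk_surjective).mp hy
  refine ⟨X (J.toCotangent ⟨x, hx⟩), Ideal.subset_span ⟨_, rfl⟩, ?_⟩
  rw [evalS_X]
  have h1 := Lsum_s_sub_mem J n σ hσ s hs lam hlam (J.toCotangent ⟨x, hx⟩)
  have h2 := mk_sub_mem_Jn_sq J n (lam (J.toCotangent ⟨x, hx⟩)) ⟨x, hx⟩ (hlam _)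
  have e : Ideal.Quotient.mk (J ^ n) x -
      Lsum (σ : S ⧸ J →+* S ⧸ J ^ n) (wn J n lam) (s (J.toCotangent ⟨x, hx⟩)) =
      -((Lsum (σ : S ⧸ J →+* S ⧸ J ^ n) (wn J n lam) (s (J.toCotangent ⟨x, hx⟩)) -
        Ideal.Quotient.mk (J ^ n) (lam (J.toCotangent ⟨x, hx⟩) : S)) +
      (Ideal.Quotient.mk (J ^ n) (lam (J.toCotangent ⟨x, hx⟩) : S) -
        Ideal.Quotient.mk (J ^ n) x)) := by ring
  rw [e]
  exact Ideal.neg_mem_iff _ |>.mpr (Ideal.add_mem _ h1 h2)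

include hσ hs hlam in
lemma exists_sub_mem_pow_succ (j : ℕ) (y : S ⧸ J ^ n) (hy : y ∈ Jn J n ^ j) :
    ∃ q ∈ idealOfVars J.Cotangent (S ⧸ J) ^ j, y - Th J n σ s lam q ∈ Jn J n ^ (j + 1) := by
  induction j generalizing y with
  | zero =>
    obtain ⟨q, hq⟩ := exists_sub_mem_Jn J n σ hσ s lam y
    exact ⟨q, by rw [pow_zero, Ideal.one_eq_top]; trivial, by rwa [zero_add, pow_one]⟩
  | succ j ih =>
    rw [pow_succ] at hy
    refine Submodule.mul_induction_on hy ?_ ?_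
    · intro a ha b hb
      obtain ⟨qa, hqa, ha'⟩ := ih a ha
      obtain ⟨qb, hqb, hb'⟩ := exists_sub_mem_Jn_sq J n σ hσ s hs lam hlam b hb
      refine ⟨qa * qb, by rw [pow_succ]; exact Ideal.mul_mem_mul hqa hqb, ?_⟩
      have e : a * b - Th J n σ s lam (qa * qb) =
          (a - Th J n σ s lam qa) * b + Th J n σ s lam qa * (b - Th J n σ s lam qb) := by
        rw [map_mul]; ring
      rw [e]
      refine Ideal.add_mem _ ?_ ?_
      · rw [pow_succ (Jn J n) (j + 1)]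
        exact Ideal.mul_mem_mul ha' hb
      · have : Jn J n ^ (j + 1 + 1) = Jn J n ^ j * Jn J n ^ 2 := by
          rw [← pow_add]
        rw [this]
        exact Ideal.mul_mem_mul (Th_mem_pow J n σ hσ s hs lam hlam j qa hqa) hb'
    · intro y y' h h'
      obtain ⟨q, hq, hq'⟩ := h
      obtain ⟨q', hq1, hq1'⟩ := h'
      refine ⟨q + q', Ideal.add_mem _ hq hq1, ?_⟩
      rw [map_add, add_sub_add_comm]
      exact Ideal.add_mem _ hq' hq1'

include hσ hs hlam in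
theorem Th_surjective : Function.Surjective (Th J n σ s lam) := by
  intro y
  have key : ∀ j : ℕ, ∃ q, y - Th J n σ s lam q ∈ Jn J n ^ j := by
    intro j
    induction j with
    | zero => exact ⟨0, by rw [pow_zero, Ideal.one_eq_top]; trivial⟩
    | succ j ih =>
      obtain ⟨q, hq⟩ := ih
      obtain ⟨q', -, hq'⟩ := exists_sub_mem_pow_succ J n σ hσ s hs lam hlam j _ hq
      refine ⟨q + q', ?_⟩
      rw [map_add, ← sub_sub]
      exact hq'
  obtain ⟨q, hq⟩ := key n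
  rw [Jn_pow_self, Ideal.mem_bot, sub_eq_zero] at hq
  exact ⟨q, hq.symm⟩

end theta

end Groth.Agent.H5.AFS
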