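import Mathlib
import Groth.Prelude.Def_PP16
import Groth.Agent.Lib.Helper5.SymPow.D
import Groth.Agent.Lib.Helper5.GrSym.J
import Groth.Agent.Lib.Helper5.AFS.H

set_option autoImplicit false

namespace Groth.Agent.H5.AFS

open MvPolynomial TensorProduct

universe u

section K0

variable {K : Type*} [CommRing K] {M : Type*} [AddCommGroup M] [Module K M]

omit [AddCommGroup M] [Module K M] in
lemma ell_single_one (m : M) :
    (GrSym.ell (Finsupp.single m (1 : K)) : MvPolynomial M K) = X m := by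
  have : (Finsupp.single m 1 : M →₀ K) = Finsupp.basisSingleOne (R := K) (ι := M) m := by
    rw [Finsupp.coe_basisSingleOne]
  rw [this, GrSym.ell, SymPow.linForm_basis]

variable (K M) in
/-- The ideal of `K[X_M]` generated by the linear relations among the elements of `M`. -/
noncomputable def K0 : Ideal (MvPolynomial M K) :=
  Ideal.span {y | ∃ f ∈ LinearMap.ker (Finsupp.linearCombination K (id : M → M)), y = GrSym.ell f}

lemma evalS_K0 {T : Type*} [CommRing T] (τ : K →+* T) (w : M → T) (s : M →ₗ[K] (M →₀ K))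
    (q : MvPolynomial M K) (hq : q ∈ K0 K M) : evalS τ w s q = 0 := by
  unfold K0 at hq
  induction hq using Submodule.span_induction with
  | mem y h => obtain ⟨f, hf, rfl⟩ := h; exact evalS_ell_of_mem_ker τ w s f hf
  | zero => exact map_zero _
  | add a b _ _ ha hb => rw [map_add, ha, hb, add_zero]
  | smul c a _ ha => rw [smul_eq_mul, map_mul, ha, mul_zero]

/-- Substituting the linear forms `ℓ(s m)` for the variables changes a polynomial by an element
of `K0`. -/
lemma sub_aeval_mem_K0 (s : M →ₗ[K] (M →₀ K))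
    (hs : ∀ m, Finsupp.linearCombination K (id : M → M) (s m) = m) (h : MvPolynomial M K) :
    h - aeval (fun m => (GrSym.ell (s m) : MvPolynomial M K)) h ∈ K0 K M := by
  have h1 := aeval_sub_aeval_mem (C := K) (A := MvPolynomial M K) (fun m => X m)
    (fun m => GrSym.ell (s m)) h
  have h2 : aeval (fun m => (X m : MvPolynomial M K)) h = h := by
    simp
  rw [h2] at h1
  refine Ideal.span_le.mpr ?_ h1
  rintro _ ⟨m, rfl⟩
  refine Ideal.subset_span ⟨Finsupp.single m 1 - s m, ?_, ?_⟩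
  · rw [LinearMap.mem_ker, map_sub, Finsupp.linearCombination_single, one_smul, hs, id, sub_self]
  · have : GrSym.ell (Finsupp.single m (1 : K) - s m) =
        (GrSym.ell (Finsupp.single m (1 : K)) : MvPolynomial M K) - GrSym.ell (s m) :=
      map_sub _ _ _
    rw [this, ell_single_one]

end K0

section kernel

variable {R S : Type u} [CommRing R] [CommRing S] [Algebra R S] (J : Ideal S) (n : ℕ)
  (σ : S ⧸ J →ₐ[R] S ⧸ J ^ n)
  (hσ : ∀ b : S, σ (Ideal.Quotient.mk J b) - Ideal.Quotient.mk (J ^ n) b ∈ Jn J n)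
  (s : J.Cotangent →ₗ[S ⧸ J] (J.Cotangent →₀ (S ⧸ J))) (hs : ∀ m, pp J (s m) = m)
  (lam : J.Cotangent → J) (hlam : ∀ m, J.toCotangent (lam m) = m)

section withι

variable (ι : Type u) [Fintype ι]

/-- `Sym[S] ι M → C[X_M]`, `⨂ v ↦ ∏ ℓ(s (v i))`. -/
noncomputable def vth : Sym[S] ι J.Cotangent →ₗ[S] MvPolynomial J.Cotangent (S ⧸ J) :=
  SymPow.theta (B₀ := S) (Finsupp.basisSingleOne (R := S ⧸ J) (ι := J.Cotangent)) ∘ₗ
    SymPow.map (s.restrictScalars S)

lemma vth_tprod (v : ι → J.Cotangent) :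
    vth J s ι (SymmetricPower.tprod S v) = ∏ i, GrSym.ell (s (v i)) := by
  rw [vth, LinearMap.comp_apply, SymPow.map_tprod, SymPow.theta_tprod]
  rfl

/-- The property used in the key lemma. -/
def KLProp (φ : Sym[S] ι J.Cotangent →ₗ[S] PP16.grJ S J (Fintype.card ι))
    (h : MvPolynomial J.Cotangent (S ⧸ J)) : Prop :=
  ∃ (z : Sym[S] ι J.Cotangent) (y : S) (hy : y ∈ J ^ Fintype.card ι),
    φ z = GrSym.cls J (J ^ Fintype.card ι) (J ^ (Fintype.card ι + 1)) (fun _ => Iff.rfl) y hy ∧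
    Ideal.Quotient.mk (J ^ n) y - Th J n σ s lam h ∈ Jn J n ^ (Fintype.card ι + 1) ∧
    vth J s ι z = aeval (fun m => (GrSym.ell (s m) : MvPolynomial J.Cotangent (S ⧸ J))) h

variable (φ : Sym[S] ι J.Cotangent →ₗ[S] PP16.grJ S J (Fintype.card ι))
  (hφ : ∀ x : ι → J, φ (SymmetricPower.tprod S fun i => J.toCotangent (x i)) = PP16.zetaJ S J x)

lemma KLProp_zero : KLProp J n σ s lam ι φ 0 := by
  refine ⟨0, 0, Ideal.zero_mem _, ?_, ?_, ?_⟩
  · rw [map_zero]; rfl
  · rw [map_zero, map_zero, sub_zero]; exact Ideal.zero_mem _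
  · rw [map_zero, map_zero]

lemma KLProp_add (h h' : MvPolynomial J.Cotangent (S ⧸ J)) (H : KLProp J n σ s lam ι φ h)
    (H' : KLProp J n σ s lam ι φ h') : KLProp J n σ s lam ι φ (h + h') := by
  obtain ⟨z, y, hy, h1, h2, h3⟩ := H
  obtain ⟨z', y', hy', h1', h2', h3'⟩ := H'
  refine ⟨z + z', y + y', Ideal.add_mem _ hy hy', ?_, ?_, ?_⟩
  · rw [map_add, h1, h1']; rfl
  · rw [map_add, map_add, add_sub_add_comm]
    exact Ideal.add_mem _ h2 h2'
  · rw [map_add, map_add, h3, h3']

include hσ hs hlam hφ in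
lemma KLProp_monomial (d : J.Cotangent →₀ ℕ) (hd : d.degree = Fintype.card ι) (c : S ⧸ J) :
    KLProp J n σ s lam ι φ (monomial d c) := by
  obtain ⟨a, rfl⟩ := SymPow.exists_count_eq (ι := ι) d hd
  obtain ⟨b, rfl⟩ := Ideal.Quotient.mk_surjective c
  have hmon : (monomial (SymPow.count a) (Ideal.Quotient.mk J b) :
      MvPolynomial J.Cotangent (S ⧸ J)) = C (Ideal.Quotient.mk J b) * ∏ i, X (a i) := by
    rw [SymPow.prod_X_eq_monomial, C_mul_monomial, mul_one]
  refine ⟨b • SymmetricPower.tprod S a, b * ∏ i, (lam (a i) : S),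
    Ideal.mul_mem_left _ _ (GrSym.prod_mem J fun i => lam (a i)), ?_, ?_, ?_⟩
  · have ha : a = fun i => J.toCotangent (lam (a i)) := by funext i; exact (hlam _).symm
    rw [map_smul]
    conv_lhs => rw [ha, hφ]
    rfl
  · have hTh : Th J n σ s lam (C (Ideal.Quotient.mk J b) * ∏ i, X (a i)) =
        (σ : S ⧸ J →+* S ⧸ J ^ n) (Ideal.Quotient.mk J b) *
          ∏ i, Lsum (σ : S ⧸ J →+* S ⧸ J ^ n) (wn J n lam) (s (a i)) := by
      rw [map_mul, map_prod, evalS_C]
      simp only [evalS_X]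
    rw [hmon, hTh, map_mul, map_prod, ← Ideal.neg_mem_iff, neg_sub]
    exact mul_prod_sub_mul_prod_mem (Jn J n) _ _ _ _ (hσ b) (fun i => mk_mem_Jn J n (lam (a i)))
      (fun i => Lsum_s_sub_mem J n σ hσ s hs lam hlam (a i))
  · rw [map_smul, vth_tprod, hmon, map_mul, map_prod, aeval_C]
    simp only [aeval_X]
    rw [← algebraMap_smul (S ⧸ J) b, MvPolynomial.smul_eq_C_mul]
    rfl

include hσ hs hlam hφ in
lemma KLProp_of_isHomogeneous (h : MvPolynomial J.Cotangent (S ⧸ J))
    (hh : h.IsHomogeneous (Fintype.card ι)) : KLProp J n σ s lam ι φ h := by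
  rw [← MvPolynomial.support_sum_monomial_coeff h]
  refine Finset.sum_induction _ (KLProp J n σ s lam ι φ) (KLProp_add J n σ s lam ι φ)
    (KLProp_zero J n σ s lam ι φ) ?_
  intro d hd
  refine KLProp_monomial J n σ hσ s hs lam hlam ι φ hφ d ?_ _
  by_contra hne
  exact (MvPolynomial.mem_support_iff.mp hd) (hh.coeff_eq_zero hne)

include hσ hs hlam hφ in
lemma mem_sup_of_Th_mem (hinj : Function.Injective φ) (j : ℕ) (hj : Fintype.card ι = j)
    (hjn : j + 1 ≤ n) (q : MvPolynomial J.Cotangent (S ⧸ J))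
    (hq : q ∈ idealOfVars J.Cotangent (S ⧸ J) ^ j)
    (hTh : Th J n σ s lam q ∈ Jn J n ^ (j + 1)) :
    q ∈ K0 (S ⧸ J) J.Cotangent ⊔ idealOfVars J.Cotangent (S ⧸ J) ^ (j + 1) := by
  subst hj
  have hhom : (homogeneousComponent (Fintype.card ι) q).IsHomogeneous (Fintype.card ι) :=
    homogeneousComponent_isHomogeneous _ _
  have hqh : q - homogeneousComponent (Fintype.card ι) q ∈
      idealOfVars J.Cotangent (S ⧸ J) ^ (Fintype.card ι + 1) := GrSym.sub_hc_mem hq
  have hTh2 : Th J n σ s lam (homogeneousComponent (Fintype.card ι) q) ∈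
      Jn J n ^ (Fintype.card ι + 1) := by
    have := Th_mem_pow J n σ hσ s hs lam hlam _ _ hqh
    rw [map_sub] at this
    have e : Th J n σ s lam (homogeneousComponent (Fintype.card ι) q) = Th J n σ s lam q -
        (Th J n σ s lam q - Th J n σ s lam (homogeneousComponent (Fintype.card ι) q)) := by ring
    rw [e]
    exact Ideal.sub_mem _ hTh this
  obtain ⟨z, y, hy, h1, h2, h3⟩ :=
    KLProp_of_isHomogeneous J n σ hσ s hs lam hlam ι φ hφ _ hhom
  have hy' : Ideal.Quotient.mk (J ^ n) y ∈ Jn J n ^ (Fintype.card ι + 1) := by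
    have e : Ideal.Quotient.mk (J ^ n) y = (Ideal.Quotient.mk (J ^ n) y -
        Th J n σ s lam (homogeneousComponent (Fintype.card ι) q)) +
        Th J n σ s lam (homogeneousComponent (Fintype.card ι) q) := by ring
    rw [e]
    exact Ideal.add_mem _ h2 hTh2
  rw [mk_mem_Jn_pow_iff J n hjn] at hy'
  have hz : z = 0 := by
    apply hinj
    rw [h1, map_zero]
    exact GrSym.cls_eq_zero J _ _ _ (fun _ => Iff.rfl) y hy hy'
  rw [hz, map_zero] at h3
  have h4 := sub_aeval_mem_K0 s hs (homogeneousComponent (Fintype.card ι) q)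
  rw [← h3, sub_zero] at h4
  have e : q = homogeneousComponent (Fintype.card ι) q +
      (q - homogeneousComponent (Fintype.card ι) q) := by ring
  rw [e]
  exact Submodule.add_mem_sup h4 hqh

end withι

include hσ hs hlam in
lemma mem_idealOfVars_of_Th_mem (hn : 1 ≤ n) (q : MvPolynomial J.Cotangent (S ⧸ J))
    (hTh : Th J n σ s lam q ∈ Jn J n) : q ∈ idealOfVars J.Cotangent (S ⧸ J) := by
  have h1 := sub_C_coeff_mem J q
  have h2 := Th_mem_pow J n σ hσ s hs lam hlam 1 _ (by rwa [pow_one])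
  rw [pow_one, map_sub, evalS_C] at h2
  obtain ⟨b, hb⟩ := Ideal.Quotient.mk_surjective (coeff 0 q)
  have h3 : Ideal.Quotient.mk (J ^ n) b ∈ Jn J n := by
    have := hσ b
    rw [hb] at this
    have e : Ideal.Quotient.mk (J ^ n) b = (Th J n σ s lam q -
        (Th J n σ s lam q - (σ : S ⧸ J →+* S ⧸ J ^ n) (coeff 0 q))) -
        (σ (coeff 0 q) - Ideal.Quotient.mk (J ^ n) b) := by
      simp
    rw [e]
    exact sub_mem (sub_mem hTh h2) this
  have h4 : b ∈ J := by
    have := (mk_mem_Jn_pow_iff J n (j := 1) hn b).mp (by rwa [pow_one])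
    rwa [pow_one] at this
  have h5 : coeff 0 q = 0 := by rw [← hb]; exact Ideal.Quotient.eq_zero_iff_mem.mpr h4
  rw [h5, map_zero, sub_zero] at h1
  exact h1

include hσ hs hlam in
theorem mem_sup_of_Th_eq_zero (hsym : PP16.SymGrBijective S J)
    (q : MvPolynomial J.Cotangent (S ⧸ J)) (hq : Th J n σ s lam q = 0) (j : ℕ) (hj : j ≤ n) :
    q ∈ K0 (S ⧸ J) J.Cotangent ⊔ idealOfVars J.Cotangent (S ⧸ J) ^ j := by
  induction j with
  | zero => rw [pow_zero, Ideal.one_eq_top, sup_top_eq]; trivial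
  | succ j ih =>
    obtain ⟨k, hk, r, hr, rfl⟩ := Submodule.mem_sup.mp (ih (by omega))
    have hTr : Th J n σ s lam r = 0 := by
      rw [map_add, evalS_K0 _ _ _ k hk, zero_add] at hq
      exact hq
    have hr' : r ∈ K0 (S ⧸ J) J.Cotangent ⊔ idealOfVars J.Cotangent (S ⧸ J) ^ (j + 1) := by
      rcases Nat.eq_zero_or_pos j with rfl | hjpos
      · rw [zero_add, pow_one]
        exact Submodule.mem_sup_right (mem_idealOfVars_of_Th_mem J n σ hσ s hs lam hlam
          (by omega) r (by rw [hTr]; exact zero_mem _))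
      · haveI : Nonempty (ULift.{u} (Fin j)) := ⟨⟨⟨0, hjpos⟩⟩⟩
        obtain ⟨φ, hφ, hbij⟩ := hsym (ULift.{u} (Fin j))
        exact mem_sup_of_Th_mem J n σ hσ s hs lam hlam (ULift.{u} (Fin j)) φ hφ hbij.1 j
          (by simp) hj r hr (by rw [hTr]; exact zero_mem _)
    obtain ⟨k', hk', r', hr'', rfl⟩ := Submodule.mem_sup.mp hr'
    rw [← add_assoc]
    exact Submodule.add_mem_sup (add_mem hk hk') hr''

end kernel

end Groth.Agent.H5.AFS
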