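import Mathlib
import Groth.Prelude.Def_PP16
import Groth.Prelude.Def_CAlgX
import Groth.Agent.Lib.Helper5.AFS.I

set_option autoImplicit false

namespace Groth.Agent.H5.AFS

open MvPolynomial TensorProduct

universe u

section sigma

variable {R S : Type u} [CommRing R] [CommRing S] [Algebra R S] (J : Ideal S) (n : ℕ)

/-- The projection `S/J^n → S/J` for `1 ≤ n`. -/
noncomputable def piN (hn : 1 ≤ n) : S ⧸ J ^ n →ₐ[R] S ⧸ J :=
  Ideal.Quotient.factorₐ R (Ideal.pow_le_self (by omega))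

lemma piN_mk (hn : 1 ≤ n) (x : S) :
    piN (R := R) J n hn (Ideal.Quotient.mk (J ^ n) x) = Ideal.Quotient.mk J x := rfl

lemma piN_surjective (hn : 1 ≤ n) : Function.Surjective (piN (R := R) J n hn) := by
  intro c
  obtain ⟨x, rfl⟩ := Ideal.Quotient.mk_surjective c
  exact ⟨Ideal.Quotient.mk _ x, rfl⟩

lemma ker_piN (hn : 1 ≤ n) :
    RingHom.ker (piN (R := R) J n hn : S ⧸ J ^ n →+* S ⧸ J) = Jn J n := by
  ext y
  obtain ⟨x, rfl⟩ := Ideal.Quotient.mk_surjective y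
  rw [RingHom.mem_ker]
  change Ideal.Quotient.mk J x = 0 ↔ _
  rw [Ideal.Quotient.eq_zero_iff_mem]
  have := mk_mem_Jn_pow_iff J n (j := 1) hn x
  rw [pow_one, pow_one] at this
  exact this.symm

lemma exists_sigma [Algebra.FormallySmooth R (S ⧸ J)] (hn : 1 ≤ n) :
    ∃ σ : S ⧸ J →ₐ[R] S ⧸ J ^ n,
      ∀ b : S, σ (Ideal.Quotient.mk J b) - Ideal.Quotient.mk (J ^ n) b ∈ Jn J n := by
  have hnil : IsNilpotent (RingHom.ker (piN (R := R) J n hn : S ⧸ J ^ n →+* S ⧸ J)) := by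
    rw [ker_piN]
    exact ⟨n, Jn_pow_self J n⟩
  refine ⟨Algebra.FormallySmooth.liftOfSurjective (AlgHom.id R (S ⧸ J)) (piN (R := R) J n hn)
    (piN_surjective J n hn) hnil, fun b => ?_⟩
  rw [← ker_piN (R := R) J n hn, RingHom.mem_ker, map_sub]
  change piN (R := R) J n hn (Algebra.FormallySmooth.liftOfSurjective (AlgHom.id R (S ⧸ J))
    (piN (R := R) J n hn) (piN_surjective J n hn) hnil (Ideal.Quotient.mk J b)) -
    piN (R := R) J n hn (Ideal.Quotient.mk (J ^ n) b) = 0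
  rw [Algebra.FormallySmooth.liftOfSurjective_apply, piN_mk]
  exact sub_self _

end sigma

section main

variable {R S : Type u} [CommRing R] [CommRing S] [Algebra R S] (J : Ideal S)

theorem isAdic_of_projective_of_symGrBijective [Algebra.FormallySmooth R (S ⧸ J)]
    [Module.Projective (S ⧸ J) J.Cotangent] (hsym : PP16.SymGrBijective S J) :
    CAlgX.IsAdicFormallySmooth R S J := by
  intro E _ _ N hN ψ ⟨k, hk⟩
  have hk' : ∀ x ∈ J ^ (k + 1), ψ x = 0 := fun x hx =>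
    hk x (Ideal.pow_le_pow_right (Nat.le_succ k) hx)
  obtain ⟨n, hn⟩ : ∃ n, n = 2 * (k + 1) := ⟨_, rfl⟩
  have hn1 : 1 ≤ n := by omega
  obtain ⟨σ, hσ⟩ := exists_sigma (R := R) J n hn1
  obtain ⟨s, hs0⟩ := (Module.projective_def' (R := S ⧸ J) (P := J.Cotangent)).mp inferInstance
  have hs : ∀ m, pp J (s m) = m := fun m => LinearMap.congr_fun hs0 m
  obtain ⟨lam, hlam⟩ : ∃ lam : J.Cotangent → J, ∀ m, J.toCotangent (lam m) = m :=
    ⟨Function.surjInv J.toCotangent_surjective, Function.surjInv_eq _⟩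
  obtain ⟨ψn, hψn⟩ : ∃ ψn : S ⧸ J ^ n →ₐ[R] E ⧸ N,
      ∀ x, ψn (Ideal.Quotient.mk (J ^ n) x) = ψ x :=
    ⟨Ideal.Quotient.liftₐ (J ^ n) ψ (fun x hx =>
      hk' x (Ideal.pow_le_pow_right (by omega) hx)), fun x => rfl⟩
  obtain ⟨τ, hτ⟩ := Algebra.FormallySmooth.exists_lift N ⟨2, hN⟩ (ψn.comp σ)
  have hτ' : ∀ c, Ideal.Quotient.mk N (τ c) = ψn (σ c) := fun c => AlgHom.congr_fun hτ c
  obtain ⟨lam1, hlam1⟩ : ∃ lam1 : J.Cotangent → E,
      ∀ m, Ideal.Quotient.mk N (lam1 m) = ψ (lam m) :=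
    ⟨fun m => Function.surjInv Ideal.Quotient.mk_surjective (ψ (lam m)),
      fun m => Function.surjInv_eq _ _⟩
  obtain ⟨Φ, hΦdef⟩ : ∃ Φ : MvPolynomial J.Cotangent (S ⧸ J) →+* E,
      Φ = evalS (τ : S ⧸ J →+* E) lam1 s := ⟨_, rfl⟩
  have hΦ : (Ideal.Quotient.mk N).comp Φ =
      (ψn : S ⧸ J ^ n →+* E ⧸ N).comp (Th J n σ s lam) := by
    apply MvPolynomial.ringHom_ext
    · intro c
      rw [RingHom.comp_apply, RingHom.comp_apply, hΦdef, evalS_C, evalS_C]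
      exact hτ' c
    · intro m
      rw [RingHom.comp_apply, RingHom.comp_apply, hΦdef, evalS_X, evalS_X, map_Lsum, map_Lsum]
      have e1 : (Ideal.Quotient.mk N).comp (τ : S ⧸ J →+* E) =
          (ψn : S ⧸ J ^ n →+* E ⧸ N).comp (σ : S ⧸ J →+* S ⧸ J ^ n) :=
        RingHom.ext hτ'
      have e2 : (fun m => Ideal.Quotient.mk N (lam1 m)) =
          fun m => (ψn : S ⧸ J ^ n →+* E ⧸ N) (wn J n lam m) := by
        funext m
        rw [hlam1]
        exact (hψn _).symm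
      rw [e1, e2]
  have hΦ' : ∀ q, Ideal.Quotient.mk N (Φ q) = ψn (Th J n σ s lam q) := fun q =>
    RingHom.congr_fun hΦ q
  have hΦN : ∀ q ∈ idealOfVars J.Cotangent (S ⧸ J) ^ (k + 1), Φ q ∈ N := by
    intro q hq
    rw [← Ideal.Quotient.eq_zero_iff_mem, hΦ']
    have := Th_mem_pow J n σ hσ s hs lam hlam (k + 1) q hq
    rw [Jn_pow] at this
    obtain ⟨x, hx, e⟩ := (Ideal.mem_map_iff_of_surjective _ Ideal.Quotient.mk_surjective).mp this
    rw [← e, hψn]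
    exact hk' x hx
  have hΦ0 : ∀ q ∈ idealOfVars J.Cotangent (S ⧸ J) ^ n, Φ q = 0 := by
    intro q hq
    have e : idealOfVars J.Cotangent (S ⧸ J) ^ n =
        idealOfVars J.Cotangent (S ⧸ J) ^ (k + 1) * idealOfVars J.Cotangent (S ⧸ J) ^ (k + 1) := by
      rw [← pow_add]; congr 1; omega
    rw [e] at hq
    refine Submodule.mul_induction_on hq ?_ ?_
    · intro a ha b hb
      have : Φ a * Φ b ∈ N ^ 2 := by
        rw [pow_two]; exact Ideal.mul_mem_mul (hΦN a ha) (hΦN b hb)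
      rw [hN, Ideal.mem_bot] at this
      rw [map_mul, this]
    · intro a b ha hb
      rw [map_add, ha, hb, add_zero]
  have hker : ∀ q ∈ RingHom.ker (Th J n σ s lam), Φ q = 0 := by
    intro q hq
    obtain ⟨k0, hk0, r, hr, rfl⟩ := Submodule.mem_sup.mp
      (mem_sup_of_Th_eq_zero J n σ hσ s hs lam hlam hsym q hq n le_rfl)
    rw [map_add, hΦdef, evalS_K0 _ _ _ k0 hk0, ← hΦdef, hΦ0 r hr, add_zero]
  have hsurj := Th_surjective J n σ hσ s hs lam hlam
  obtain ⟨χ0, hχ0⟩ : ∃ χ0 : S →+* E,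
      ∀ b q, Th J n σ s lam q = Ideal.Quotient.mk (J ^ n) b → χ0 b = Φ q := by
    refine ⟨(Ideal.Quotient.lift _ Φ hker).comp
      (((RingHom.quotientKerEquivOfSurjective hsurj).symm :
        S ⧸ J ^ n →+* _ ⧸ RingHom.ker (Th J n σ s lam)).comp (Ideal.Quotient.mk (J ^ n))), ?_⟩
    intro b q hq
    change Ideal.Quotient.lift _ Φ hker
      ((RingHom.quotientKerEquivOfSurjective hsurj).symm (Ideal.Quotient.mk (J ^ n) b)) = Φ q
    rw [← hq, RingHom.quotientKerEquivOfSurjective_symm_apply, Ideal.Quotient.lift_mk]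
  refine ⟨{ χ0 with commutes' := ?_ }, ?_⟩
  · intro r
    have h1 := hχ0 (algebraMap R S r) (C (algebraMap R (S ⧸ J) r)) (by
      rw [evalS_C]
      exact σ.commutes r)
    change χ0 (algebraMap R S r) = algebraMap R E r
    rw [h1, hΦdef, evalS_C]
    exact τ.commutes r
  · apply AlgHom.ext
    intro b
    obtain ⟨q, hq⟩ := hsurj (Ideal.Quotient.mk (J ^ n) b)
    change Ideal.Quotient.mk N (χ0 b) = ψ b
    rw [hχ0 b q hq, hΦ', hq, hψn]

end main

end Groth.Agent.H5.AFS
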